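import Cfsg.Agent.Spor.Prim
import Cfsg.Agent.Spor.Tia.Main
import Cfsg.Agent.Spor.Tia.S.C0

set_option autoImplicit false
set_option maxRecDepth 100000000
set_option Elab.async false

namespace Cfsg.Agent.Spor.Tia.S

theorem hU : U.Ok 11 := U.ok_of 11 (show AllP (fun n => Net.okb 11 n = true) [n0, n1, n2] from AllP.cons ok0 (AllP.cons ok1 (AllP.cons ok2 (AllP.nil))))

theorem hfP : ∀ j < 3, U.fP [1, 3, 5] j = fP j := by
  intro j hj
  interval_cases j <;> rfl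
theorem eG : gsub 3 fP = U.lsub W1 := (gsub_congr hfP).symm.trans (lsub_eq_gsub U [1, 3, 5])
theorem upz1 : ev (atm 3 fP) [0] = U.τ 1 := pz1
theorem upz3 : ev (atm 3 fP) [2] = U.τ 3 := pz2
theorem upz5 : ev (atm 3 fP) [4] = U.τ 5 := pz3
theorem eH : wsub 3 fP BW = U.lsub W2 :=
  lsub_eq_of_all₂ (show List.Forall₂ _ [[2], [4]] [[3], [5]] from List.Forall₂.cons (upz3.trans (one_mul _).symm) (List.Forall₂.cons (upz5.trans (one_mul _).symm) (List.Forall₂.nil)))
theorem reach4 : Reach (U.lsub W2) 1 0x8008236e := (Reach.grow hU (Reach.base _ 1) gr3)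
theorem reach7 : Reach (U.lsub ([1] :: W2)) 0 (ones 1755) := (Reach.grow hU (Reach.base _ 0) gr6)
theorem reach10 : Reach (U.lsub W2) 4 M8 := (Reach.grow hU (Reach.base _ 4) gr9)
theorem reach13 : Reach (U.lsub ([1, 5, 1] :: W2)) 0 (ones 1755) := (Reach.grow hU (Reach.base _ 0) gr12)
theorem reach16 : Reach (U.lsub W2) 21 M14 := (Reach.grow hU (Reach.base _ 21) gr15)
theorem reach19 : Reach (U.lsub ([1, 5, 1, 5, 1] :: W2)) 0 (ones 1755) := (Reach.grow hU (Reach.base _ 0) gr18)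
theorem reach22 : Reach (U.lsub W2) 113 M20 := (Reach.grow hU (Reach.base _ 113) gr21)
theorem reach25 : Reach (U.lsub ([1, 5, 1, 5, 1, 5, 1] :: W2)) 0 (ones 1755) := (Reach.grow hU (Reach.base _ 0) gr24)
noncomputable def X : List SubO := [([1], 1, 0x8008236e), ([1, 5, 1], 4, M8), ([1, 5, 1, 5, 1], 21, M14), ([1, 5, 1, 5, 1, 5, 1], 113, M20)]
theorem hX : AllP (SubOk U W2 W1) X :=
  show AllP (SubOk U W2 W1) [([1], 1, 0x8008236e), ([1, 5, 1], 4, M8), ([1, 5, 1, 5, 1], 21, M14), ([1, 5, 1, 5, 1, 5, 1], 113, M20)] from AllP.cons ⟨U.mem_letters (by decide), (hU.sends sd5), reach4⟩ (AllP.cons ⟨U.mem_letters (by decide), (hU.sends sd11), reach10⟩ (AllP.cons ⟨U.mem_letters (by decide), (hU.sends sd17), reach16⟩ (AllP.cons ⟨U.mem_letters (by decide), (hU.sends sd23), reach22⟩ (AllP.nil))))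
theorem hXc : subCov 1755 X = true := by decide +kernel
theorem hY : AllP (fun x : SubO => Reach (U.lsub (x.1 :: W2)) 0 (ones 1755)) X :=
  show AllP (fun x : SubO => Reach (U.lsub (x.1 :: W2)) 0 (ones 1755)) [([1], 1, 0x8008236e), ([1, 5, 1], 4, M8), ([1, 5, 1, 5, 1], 21, M14), ([1, 5, 1, 5, 1, 5, 1], 113, M20)] from AllP.cons reach7 (AllP.cons reach13 (AllP.cons reach19 (AllP.cons reach25 (AllP.nil))))
theorem hfix : gsub 3 fP ≤ FixFrom 1755 := (gsub_congr hfP).symm.le.trans (hU.gsub_fix (gs := [1, 3, 5]) (AllP.cons ff26 (AllP.cons ff27 (AllP.cons ff28 (AllP.nil)))))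

end Cfsg.Agent.Spor.Tia.S
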