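import Cfsg.Agent.Spor.Chk2
import Cfsg.Agent.Spor.Tia.D0

set_option autoImplicit false
set_option maxRecDepth 100000000
set_option Elab.async false
noncomputable section

namespace Cfsg.Agent.Spor.Tia.S

def W1 : List (List Nat) := [[1], [3], [5]]

def W2 : List (List Nat) := [[3], [5]]

def M8 : Nat := nat_lit 0x10200004801114304120100000410015d541515dddd2051feef7dd7dc90

def M14 : Nat := nat_lit 0x400480000000002000800040001806200003000000000404281000084020101418100c000000250c800000050c00000020820108a2007200003c0600620880100802402385206740c8a4c88a749009492c5448446300004c048254716d5047b023572d46f5821a40354351f90dd1b416408d4541a0e1000161a1dcc3de2d306e4ab61ac1dce0e081074308076fdefdbaf75a1b6a3f77776d40b1eefbbfb7f6fdf7edf6f7bf7bb41ddb41ddf7df7df77b41b47fefdfdf7b7dceebcfbedfeff7dfbefdca2abeaea2222dfae011002200000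

def M20 : Nat := nat_lit 0x7fffffffffffffffffffffbffb7fffffffffdfff7fffbfffe7f9dffffcfffffffffbfbd7effff7bfdfefebe7eff3ffffffdaf37ffffffaf3ffffffdf7dfef75dff8dffffc3f9ff9df77feff7fdbfdc7adf98bf375b37758b6ff6b6d3abb7bb9cffffb3fb7dab8e92afb84fdca8d2b90a7de5bfcabcae06f22e4be9bf72babe5f1efffe9e5e233c21d2cf91b549e53e231f1f7ef8bcf7f89021024508a5e495c0888892bf4e1104404809020812090840844be224be220820820884be4b8000002080022000000000000820000220000000000000000000000000000

def U : Tab := ⟨[n0, n1, n2], [⟨0, false, 0, 0, []⟩, ⟨0, false, 0, 0, []⟩, ⟨0, true, 0, 0, []⟩, ⟨1, false, 0, 0, []⟩, ⟨1, true, 0, 0, []⟩, ⟨2, false, 0, 0, []⟩, ⟨2, true, 0, 0, []⟩]⟩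

end Cfsg.Agent.Spor.Tia.S
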